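import Groth.Agent.H88.Excision

/-!
Excision for étale cohomology with supports along an étale neighbourhood of the support.
-/

set_option autoImplicit false
set_option linter.style.haveILetI false
universe u

open CategoryTheory CategoryTheory.Limits AlgebraicGeometry Opposite
open Groth.Agent.H88

namespace Groth.Agent.H25.EtExcision.Main

variable {X X' U U' : Scheme.{u}} (f : X' ⟶ X) [Etale f]

/-- A point over a field is determined by its image and the residue field map. -/
theorem eq_of_comp_eq {L : Type u} [Field L] (a b : Spec (CommRingCat.of L) ⟶ X')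
    (o : ↑(Spec (CommRingCat.of L))) (hab : a o = b o)
    (hsurj : Function.Surjective (f.residueFieldMap (a o)))
    (h : a ≫ f = b ≫ f) : a = b := by
  obtain ⟨⟨x, φ⟩, rfl⟩ := (Scheme.SpecToEquivOfField L X').symm.surjective a
  obtain ⟨⟨x', ψ⟩, rfl⟩ := (Scheme.SpecToEquivOfField L X').symm.surjective b
  change Spec.map φ ≫ X'.fromSpecResidueField x = Spec.map ψ ≫ X'.fromSpecResidueField x'
  have key : ∀ (y : X') (χ : X'.residueField y ⟶ CommRingCat.of L),
      ((Scheme.SpecToEquivOfField L X').symm ⟨y, χ⟩) o = y := fun y χ =>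
    (Scheme.Hom.comp_apply (Spec.map χ) (X'.fromSpecResidueField y) o).trans
      (X'.fromSpecResidueField_apply y _)
  have hx : x = x' := (key x φ).symm.trans (hab.trans (key x' ψ))
  subst hx
  replace hsurj : Function.Surjective (f.residueFieldMap x) := by
    rw [key] at hsurj; exact hsurj
  simp only [Scheme.SpecToEquivOfField, Equiv.coe_fn_symm_mk, Category.assoc,
    ← Scheme.Hom.SpecMap_residueFieldMap_fromSpecResidueField] at h
  rw [← Category.assoc, ← Category.assoc, cancel_mono, ← Spec.map_comp, ← Spec.map_comp,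
    Spec.map_inj] at h
  congr 2
  ext r
  obtain ⟨s, rfl⟩ := hsurj r
  exact congrArg (fun m => m.hom s) h

/-- Two points with the same image, over a trivial residue extension, meet the diagonal. -/
theorem mem_range_diagonal {Y : Scheme.{u}} (a b : Y ⟶ X') (h : a ≫ f = b ≫ f) (t : Y)
    (hab : a t = b t) (hs : Function.Surjective (f.residueFieldMap (a t))) :
    pullback.lift a b h t ∈ Set.range (pullback.diagonal f).base := by
  let m := Y.fromSpecResidueField t
  let o : ↑(Spec (Y.residueField t)) := IsLocalRing.closedPoint (Y.residueField t)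
  have hm : m o = t := Y.fromSpecResidueField_apply t _
  have hmab : m ≫ a = m ≫ b := by
    refine eq_of_comp_eq f (L := Y.residueField t) _ _ o ?_ ?_ (by rw [Category.assoc, Category.assoc, h])
    · show a (m o) = b (m o)
      rw [hm]; exact hab
    · show Function.Surjective (f.residueFieldMap (a (m o)))
      rw [hm]; exact hs
  have hml : m ≫ pullback.lift a b h = (m ≫ a) ≫ pullback.diagonal f := by
    apply pullback.hom_ext
    · simp only [Category.assoc, pullback.diagonal_fst, Category.comp_id]
      exact congrArg (m ≫ ·) (pullback.lift_fst a b h)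
    · simp only [Category.assoc, pullback.diagonal_snd, Category.comp_id]
      exact (congrArg (m ≫ ·) (pullback.lift_snd a b h)).trans hmab.symm
  refine ⟨(m ≫ a) o, ?_⟩
  have e := congrArg (fun k => k o) hml
  exact e.symm.trans (congrArg (pullback.lift a b h).base hm)

variable (j : U ⟶ X) [IsOpenImmersion j] (j' : U' ⟶ X') [IsOpenImmersion j']
  (hU' : Set.range j'.base = f.base ⁻¹' Set.range j.base)

/-- The arrow `X' → X` of the small etale site. -/
noncomputable def topHom : (EtShriek.compEtale f).obj (EtCoh.top X') ⟶ EtCoh.top X :=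
  MorphismProperty.Over.homMk f (by
    change f ≫ 𝟙 X = 𝟙 X' ≫ f
    simp)

/-- The arrow `U → X` of the small etale site. -/
noncomputable def openHom : (EtShriek.compEtale j).obj (EtCoh.top U) ⟶ EtCoh.top X :=
  MorphismProperty.Over.homMk j (by
    change j ≫ 𝟙 X = 𝟙 U ≫ j
    simp)

include hU' in
theorem range_subset_of (T : X'.Etale) (hT : Set.range T.hom.base ⊆ Set.range j'.base) :
    Set.range ((EtShriek.compEtale f).obj T).hom.base ⊆ Set.range j.base := by
  rintro _ ⟨y, rfl⟩
  exact (hU'.le (hT ⟨y, rfl⟩) :)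

include hU' in
theorem range_subset_of' (T : X'.Etale)
    (hT : Set.range ((EtShriek.compEtale f).obj T).hom.base ⊆ Set.range j.base) :
    Set.range T.hom.base ⊆ Set.range j'.base := by
  rintro _ ⟨y, rfl⟩
  exact (hU'.ge (hT ⟨y, rfl⟩) :)

include hU' in
theorem res_aux (F : EtCoh.Ab X) :
    (EtShriek.restrAlong f).map (kernel.ι (EtDual.unitApp j F)) ≫
      EtDual.unitApp j' ((EtShriek.restrAlong f).obj F) = 0 := by
  rw [Restrict.comp_unitApp_eq_zero_iff]
  intro V s T w hT
  exact Excision.killed_ι j (V := (EtShriek.compEtale f).obj V) s _ ((EtShriek.compEtale f).map w)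
    (range_subset_of f j j' hU' T hT)

set_option maxHeartbeats 1000000 in
/-- Restriction of sections with supports. -/
noncomputable def res : EtDual.secSupp j ⋙ EtShriek.restrAlong f ⟶
    EtShriek.restrAlong f ⋙ EtDual.secSupp j' where
  app F := kernel.lift _ ((EtShriek.restrAlong f).map (kernel.ι (EtDual.unitApp j F))) (res_aux f j j' hU' F)
  naturality F G φ := by
    rw [← cancel_mono (kernel.ι (EtDual.unitApp j' ((EtShriek.restrAlong f).obj G)))]
    dsimp only [Functor.comp_obj, Functor.comp_map]
    rw [Category.assoc, Category.assoc, kernel.lift_ι]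
    erw [kernel.lift_ι]
    rw [← Category.assoc, kernel.lift_ι, ← Functor.map_comp, ← Functor.map_comp]
    exact congrArg (EtShriek.restrAlong f).map (kernel.lift_ι _ _ _)

/-- Restriction of global sections with supports. -/
noncomputable def resΓ : EtDual.gammaSupp j ⟶ EtShriek.restrAlong f ⋙ EtDual.gammaSupp j' where
  app F := ((EtDual.secSupp j).obj F).obj.map (topHom f).op ≫
    ((res f j j' hU').app F).hom.app (op (EtCoh.top X'))
  naturality F G φ := by
    have h1 := ((EtDual.secSupp j).map φ).hom.naturality (topHom f).op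
    have h2 := congrArg (fun m => m.hom.app (op (EtCoh.top X'))) ((res f j j' hU').naturality φ)
    refine ((Category.assoc _ _ _).symm.trans (congrArg (· ≫ _) h1.symm)).trans ?_
    exact (Category.assoc _ _ _).trans ((congrArg (((EtDual.secSupp j).obj F).obj.map (topHom f).op ≫ ·) h2).trans
      (Category.assoc _ _ _).symm)

theorem ι_resΓ (F : EtCoh.Ab X) (t : (kernel (EtDual.unitApp j F)).obj.obj (op (EtCoh.top X))) :
    (kernel.ι (EtDual.unitApp j' ((EtShriek.restrAlong f).obj F))).hom.app (op (EtCoh.top X'))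
        ((resΓ f j j' hU').app F t) =
      F.obj.map (topHom f).op ((kernel.ι (EtDual.unitApp j F)).hom.app (op (EtCoh.top X)) t) := by
  refine Eq.trans ?_ (NatTrans.naturality_apply (kernel.ι (EtDual.unitApp j F)).hom (topHom f).op t)
  exact congrArg (fun m : (EtShriek.restrAlong f).obj ((EtDual.secSupp j).obj F) ⟶ (EtShriek.restrAlong f).obj F =>
      (m.hom.app (op (EtCoh.top X'))).hom (((EtDual.secSupp j).obj F).obj.map (topHom f).op t))
    (kernel.lift_ι (EtDual.unitApp j' ((EtShriek.restrAlong f).obj F)) _ _)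

include hU' in
/-- A section over `X'` supported off `U'` dies on everything lying over `U`. -/
theorem map_eq_zero {F : EtCoh.Ab X}
    (c : F.obj.obj (op ((EtShriek.compEtale f).obj (EtCoh.top X'))))
    (hc : Excision.Killed j' (F := (EtShriek.restrAlong f).obj F) (V := EtCoh.top X') c)
    {T : X.Etale} (p : T ⟶ (EtShriek.compEtale f).obj (EtCoh.top X'))
    (hT : Set.range T.hom.base ⊆ Set.range j.base) : F.obj.map p.op c = 0 := by
  have hp : p.left ≫ f = T.hom := by
    have h : p.left ≫ 𝟙 X' ≫ f = T.hom := MorphismProperty.Over.w p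
    exact (congrArg (p.left ≫ ·) (Category.id_comp f)).symm.trans h
  let T' : X'.Etale := MorphismProperty.Over.mk ⊤ p.left
    (EtCoh.etaleMP.of_postcomp (W' := EtCoh.etaleMP) p.left f
      (show Etale f from inferInstance) (hp.symm ▸ T.prop))
  let v : T ⟶ (EtShriek.compEtale f).obj T' := MorphismProperty.Over.homMk (𝟙 _)
    ((Category.id_comp _).trans hp)
  let w' : T' ⟶ EtCoh.top X' := MorphismProperty.Over.homMk p.left (Category.comp_id _)
  have hw : p = v ≫ (EtShriek.compEtale f).map w' := by
    apply MorphismProperty.Over.Hom.ext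
    exact (Category.id_comp p.left).symm
  have hT' : Set.range T'.hom.base ⊆ Set.range j'.base := by
    refine range_subset_of' f j j' hU' T' ?_
    have : ((EtShriek.compEtale f).obj T').hom = T.hom := hp
    rw [this]; exact hT
  have h0 := hc T' w' hT'
  rw [hw]
  exact (Restrict.map_comp_apply F.obj _ v.op c).trans ((congrArg (F.obj.map v.op) h0).trans (map_zero _))

theorem isSheafFor_of_surjective (F : EtCoh.Ab X) {W : X.Etale} {ι : Type} (Z : ι → X.Etale)
    (π : ∀ i, Z i ⟶ W) (h : ⋃ i, Set.range (π i).left = .univ) :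
    Presieve.IsSheafFor (F.obj ⋙ CategoryTheory.forget AddCommGrpCat.{u + 1}) (Presieve.ofArrows Z π) := by
  have hcov : Sieve.ofArrows Z π ∈ X.smallEtaleTopology W :=
    (Scheme.ofArrows_mem_smallEtaleTopology_iff π).2 h
  have hQ : Presieve.IsSheaf X.smallEtaleTopology (F.obj ⋙ CategoryTheory.forget AddCommGrpCat.{u + 1}) :=
    (isSheaf_iff_isSheaf_of_type _ _).1
      ((sheafCompose X.smallEtaleTopology (CategoryTheory.forget AddCommGrpCat.{u + 1})).obj F).property
  exact (Presieve.isSheafFor_iff_generate _).2 (hQ _ hcov)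

theorem eq_of_cover (F : EtCoh.Ab X) {W : X.Etale} {ι : Type} (Z : ι → X.Etale)
    (π : ∀ i, Z i ⟶ W) (h : ⋃ i, Set.range (π i).left = .univ) {a b : F.obj.obj (op W)}
    (hab : ∀ i, F.obj.map (π i).op a = F.obj.map (π i).op b) : a = b :=
  (isSheafFor_of_surjective F Z π h).isSeparatedFor.ext fun _ _ hg => by
    cases hg with | mk i => exact hab i

/-- An object of the small etale site cut out by an open. -/
noncomputable def openObj (T : X.Etale) (O : T.left.Opens) : X.Etale :=
  MorphismProperty.Over.mk ⊤ (O.ι ≫ T.hom) (EtCoh.etaleMP.comp_mem _ _ (show Etale O.ι from inferInstance) T.prop)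

noncomputable def openι (T : X.Etale) (O : T.left.Opens) : openObj T O ⟶ T :=
  MorphismProperty.Over.homMk O.ι rfl

variable (hZ : Set.BijOn f.base (Set.range j'.base)ᶜ (Set.range j.base)ᶜ)
  (hκ : ∀ x' : ↥X', x' ∉ Set.range j'.base → Function.Surjective (f.residueFieldMap x'))

include hU' hZ hκ in
theorem map_eq_map {F : EtCoh.Ab X}
    (c : F.obj.obj (op ((EtShriek.compEtale f).obj (EtCoh.top X'))))
    (hc : Excision.Killed j' (F := (EtShriek.restrAlong f).obj F) (V := EtCoh.top X') c)
    {T : X.Etale} (p q : T ⟶ (EtShriek.compEtale f).obj (EtCoh.top X')) :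
    F.obj.map p.op c = F.obj.map q.op c := by
  have hp : p.left ≫ f = T.hom := by
    have h : p.left ≫ 𝟙 X' ≫ f = T.hom := MorphismProperty.Over.w p
    exact (congrArg (p.left ≫ ·) (Category.id_comp f)).symm.trans h
  have hq : q.left ≫ f = T.hom := by
    have h : q.left ≫ 𝟙 X' ≫ f = T.hom := MorphismProperty.Over.w q
    exact (congrArg (q.left ≫ ·) (Category.id_comp f)).symm.trans h
  let l : T.left ⟶ pullback f f := pullback.lift p.left q.left (hp.trans hq.symm)
  let O₁ : T.left.Opens := T.hom ⁻¹ᵁ j.opensRange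
  let O₂ : T.left.Opens := l ⁻¹ᵁ (pullback.diagonal f).opensRange
  refine eq_of_cover F (fun b : Bool => openObj T (cond b O₁ O₂)) (fun b => openι T (cond b O₁ O₂)) ?_ ?_
  · refine Set.eq_univ_of_forall fun t => ?_
    by_cases ht : T.hom t ∈ Set.range j.base
    · exact Set.mem_iUnion.2 ⟨true, ⟨⟨t, ht⟩, rfl⟩⟩
    refine Set.mem_iUnion.2 ⟨false, ⟨⟨t, ?_⟩, rfl⟩⟩
    let a : T.left ⟶ X' := p.left
    let b : T.left ⟶ X' := q.left
    have ea : f (a t) = T.hom t := congrArg (fun m : T.left ⟶ X => m t) hp
    have eb : f (b t) = T.hom t := congrArg (fun m : T.left ⟶ X => m t) hq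
    have hpt : a t ∉ Set.range j'.base := fun h' => ht (ea ▸ (hU'.le h' :))
    have hqt : b t ∉ Set.range j'.base := fun h' => ht (eb ▸ (hU'.le h' :))
    have hpq : a t = b t := hZ.injOn hpt hqt (ea.trans eb.symm)
    exact mem_range_diagonal f a b (hp.trans hq.symm) t hpq (hκ _ hpt)
  · intro b
    refine (Restrict.map_comp_apply F.obj p.op _ c).symm.trans (Eq.trans ?_ (Restrict.map_comp_apply F.obj q.op _ c))
    cases b
    · have : openι T O₂ ≫ p = openι T O₂ ≫ q := by
        apply MorphismProperty.Over.Hom.ext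
        show O₂.ι ≫ p.left = O₂.ι ≫ q.left
        have hr : Set.range (O₂.ι ≫ l).base ⊆ Set.range (pullback.diagonal f).base := by
          rintro _ ⟨y, rfl⟩; exact y.2
        have e := IsOpenImmersion.lift_fac (pullback.diagonal f) (O₂.ι ≫ l) hr
        have e1 := congrArg (· ≫ pullback.fst f f) e
        have e2 := congrArg (· ≫ pullback.snd f f) e
        simp only [Category.assoc, pullback.diagonal_fst, pullback.diagonal_snd, Category.comp_id, l,
          pullback.lift_fst, pullback.lift_snd] at e1 e2
        exact e1.symm.trans e2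
      exact congrArg (fun m => F.obj.map m.op c) this
    · have hr : Set.range (openObj T O₁).hom.base ⊆ Set.range j.base := by
        rintro _ ⟨y, rfl⟩; exact y.2
      exact (map_eq_zero f j j' hU' c hc (openι T O₁ ≫ p) hr).trans
        (map_eq_zero f j j' hU' c hc (openι T O₁ ≫ q) hr).symm

include hZ in
theorem cover : ⋃ b : Bool,
    Set.range (Bool.rec (motive := fun b => (Bool.rec ((EtShriek.compEtale j).obj (EtCoh.top U))
        ((EtShriek.compEtale f).obj (EtCoh.top X')) b : X.Etale) ⟶ EtCoh.top X) (openHom j) (topHom f) b).left =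
      Set.univ := by
  refine Set.eq_univ_of_forall fun x => Set.mem_iUnion.2 ?_
  by_cases hx : x ∈ Set.range j.base
  · obtain ⟨y, rfl⟩ := hx
    exact ⟨false, y, rfl⟩
  · obtain ⟨y, -, rfl⟩ := hZ.surjOn hx
    exact ⟨true, y, rfl⟩

include hZ hκ in
theorem bijective_resΓ (F : EtCoh.Ab X) : Function.Bijective ((resΓ f j j' hU').app F) := by
  let Z : Bool → X.Etale := fun b => Bool.rec ((EtShriek.compEtale j).obj (EtCoh.top U))
        ((EtShriek.compEtale f).obj (EtCoh.top X')) b
  let π : ∀ b, Z b ⟶ EtCoh.top X := fun b => Bool.rec (openHom j) (topHom f) b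
  have hU : Set.range ((EtShriek.compEtale j).obj (EtCoh.top U)).hom.base ⊆ Set.range j.base := by
    rintro _ ⟨y, rfl⟩; exact ⟨y, rfl⟩
  constructor
  · intro a b hab
    apply Excision.ι_injective j
    refine eq_of_cover F Z π (cover f j j' hZ) fun i => ?_
    cases i
    · exact (Excision.killed_ι j a _ (openHom j) hU).trans (Excision.killed_ι j b _ (openHom j) hU).symm
    · exact ((ι_resΓ f j j' hU' F a).symm.trans (congrArg _ hab)).trans (ι_resΓ f j j' hU' F b)
  · intro c₀
    let c := (kernel.ι (EtDual.unitApp j' ((EtShriek.restrAlong f).obj F))).hom.app (op (EtCoh.top X')) c₀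
    have hc := Excision.killed_ι j' (F := (EtShriek.restrAlong f).obj F) c₀
    have hsf := isSheafFor_of_surjective F Z π (cover f j j' hZ)
    rw [Presieve.isSheafFor_arrows_iff] at hsf
    let x : ∀ b, F.obj.obj (op (Z b)) := fun b => Bool.rec 0 c b
    obtain ⟨s, hs, -⟩ := hsf x (by
      rintro (_ | _) (_ | _) T g g' -
      · exact (map_zero (F.obj.map g.op).hom).trans (map_zero (F.obj.map g'.op).hom).symm
      · refine (map_zero (F.obj.map g.op).hom).trans (map_eq_zero f j j' hU' c hc g' ?_).symm
        rintro _ ⟨y, rfl⟩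
        rw [← MorphismProperty.Over.w g]
        exact hU ⟨g.left y, rfl⟩
      · refine (map_eq_zero f j j' hU' c hc g ?_).trans (map_zero (F.obj.map g'.op).hom).symm
        rintro _ ⟨y, rfl⟩
        rw [← MorphismProperty.Over.w g']
        exact hU ⟨g'.left y, rfl⟩
      · exact map_eq_map f j j' hU' hZ hκ c hc g g')
    have hks : Excision.Killed j (F := F) (V := EtCoh.top X) s := fun T w hT => by
      let l : T.left ⟶ U := IsOpenImmersion.lift j T.hom hT
      let v : T ⟶ (EtShriek.compEtale j).obj (EtCoh.top U) := MorphismProperty.Over.homMk l (by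
        change l ≫ 𝟙 U ≫ j = T.hom
        rw [Category.id_comp, IsOpenImmersion.lift_fac])
      have hw : w = v ≫ openHom j := by
        apply MorphismProperty.Over.Hom.ext
        change w.left = l ≫ j
        rw [IsOpenImmersion.lift_fac]
        exact (Category.comp_id _).symm.trans (MorphismProperty.Over.w w)
      rw [hw]
      exact (Restrict.map_comp_apply F.obj (openHom j).op v.op s).trans
        ((congrArg (F.obj.map v.op) (hs false)).trans (map_zero _))
    obtain ⟨t, ht⟩ := Excision.exists_lift j (V := EtCoh.top X) s hks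
    exact ⟨t, Excision.ι_injective j' _ ((ι_resΓ f j j' hU' F t).trans ((congrArg _ ht).trans (hs true)))⟩

include hU' hZ hκ in
theorem nonempty_iso (F : EtCoh.Ab X) (r : ℕ) :
    Nonempty ((EtDual.HY j r).obj F ≅ (EtDual.HY j' r).obj ((EtCoh.pull f).obj F)) := by
  haveI : ∀ G, IsIso ((resΓ f j j' hU').app G) := fun G =>
    (ConcreteCategory.isIso_iff_bijective _).2 (bijective_resΓ f j j' hU' hZ hκ G)
  let I := injectiveResolution F
  let φ := (NatTrans.mapHomologicalComplex (resΓ f j j' hU') (ComplexShape.up ℕ)).app I.cocomplex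
  haveI : ∀ i, IsIso (φ.f i) := fun i => inferInstanceAs (IsIso ((resΓ f j j' hU').app (I.cocomplex.X i)))
  haveI : IsIso φ := HomologicalComplex.Hom.isIso_of_components φ
  exact ⟨I.isoRightDerivedObj (EtDual.gammaSupp j) r ≪≫
    HomologicalComplex.homologyMapIso (asIso φ) r ≪≫
    ((Restrict.restrRes f I).isoRightDerivedObj (EtDual.gammaSupp j') r).symm ≪≫
    (EtDual.HY j' r).mapIso ((Lib.EtJ.Basic.pullIsoRestr f).app F).symm⟩

end Groth.Agent.H25.EtExcision.Main
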